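import Mathlib

/-! The restriction map on morphisms of schemes over a base, as a unique-extension property. -/

set_option autoImplicit false
set_option backward.isDefEq.respectTransparency false
universe u

open CategoryTheory CategoryTheory.Limits AlgebraicGeometry

namespace Groth.Agent.NeronMapLib

variable {S S₀ : Scheme.{u}}

/-- Unique extension along `w`. -/
def Ext (Z N : Over S) {W : Scheme.{u}} (w : W ⟶ Z.left) : Prop :=
  ∀ h : W ⟶ N.left, h ≫ N.hom = w ≫ Z.hom → ∃! g : Z.left ⟶ N.left, g ≫ N.hom = Z.hom ∧ w ≫ g = h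

theorem bijective_iff (j : S₀ ⟶ S) (Z N : Over S) {W : Scheme.{u}} {w : W ⟶ Z.left} {w' : W ⟶ S₀}
    (sq : IsPullback w w' Z.hom j) :
    Function.Bijective (fun g : Z ⟶ N => (Over.pullback j).map g) ↔ Ext Z N w := by
  let e := sq.isoPullback
  have key : ∀ g : Z ⟶ N, ((Over.pullback j).map g).left ≫ pullback.fst N.hom j =
      pullback.fst Z.hom j ≫ g.left := fun g => by simp
  constructor
  · intro hb h hh
    have hh' : (e.inv ≫ h) ≫ N.hom = pullback.snd Z.hom j ≫ j := by
      rw [Category.assoc, hh, ← Category.assoc, IsPullback.isoPullback_inv_fst]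
      exact pullback.condition
    obtain ⟨g, hg⟩ := hb.2 (Over.homMk (pullback.lift _ _ hh') (pullback.lift_snd _ _ _))
    replace hg : (Over.pullback j).map g = _ := hg
    have hg' : pullback.fst Z.hom j ≫ g.left = e.inv ≫ h := by
      rw [← key, hg]; simp
    refine ⟨g.left, ⟨Over.w g, ?_⟩, fun g' hg'' => ?_⟩
    · rw [← sq.isoPullback_hom_fst, Category.assoc, hg', Iso.hom_inv_id_assoc]
    · refine congrArg CommaMorphism.left (hb.1 (a₁ := Over.homMk g' hg''.1) (a₂ := g) ?_)
      apply Over.OverMorphism.ext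
      apply pullback.hom_ext
      · rw [key, key, hg']
        show pullback.fst Z.hom j ≫ g' = e.inv ≫ h
        rw [← hg''.2, ← Category.assoc, IsPullback.isoPullback_inv_fst]
      · simp
  · intro hE
    constructor
    · intro a b hab
      have hab' : pullback.fst Z.hom j ≫ a.left = pullback.fst Z.hom j ≫ b.left := by
        rw [← key, ← key]
        exact congrArg (fun k => CommaMorphism.left k ≫ pullback.fst N.hom j) hab
      obtain ⟨g, -, hu⟩ := hE (w ≫ a.left) (by rw [Category.assoc, Over.w])
      refine Over.OverMorphism.ext ((hu a.left ⟨Over.w a, rfl⟩).trans (hu b.left ⟨Over.w b, ?_⟩).symm)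
      rw [← sq.isoPullback_hom_fst, Category.assoc, Category.assoc, hab']
    · intro k
      obtain ⟨g, ⟨hg, hg'⟩, -⟩ := hE (e.hom ≫ k.left ≫ pullback.fst N.hom j) (by
        rw [Category.assoc, Category.assoc, pullback.condition, ← Category.assoc k.left,
          show k.left ≫ pullback.snd N.hom j = pullback.snd Z.hom j from Over.w k,
          ← pullback.condition, ← Category.assoc, IsPullback.isoPullback_hom_fst])
      refine ⟨Over.homMk g hg, ?_⟩
      apply Over.OverMorphism.ext
      apply pullback.hom_ext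
      · rw [key]
        show pullback.fst Z.hom j ≫ g = _
        rw [← cancel_epi e.hom, ← Category.assoc, IsPullback.isoPullback_hom_fst, hg']
      · simp [show k.left ≫ pullback.snd N.hom j = pullback.snd Z.hom j from Over.w k]

theorem bijective_iff_preimage (U : S.Opens) (Z N : Over S) :
    Function.Bijective (fun g : Z ⟶ N => (Over.pullback U.ι).map g) ↔ Ext Z N (Z.hom ⁻¹ᵁ U).ι :=
  bijective_iff U.ι Z N (isPullback_morphismRestrict Z.hom U).flip

/-- A pullback along a smaller open inside a bigger one. -/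
theorem isPullback_inner (U V : S.Opens) (h : V ≤ U) {X W : Scheme.{u}} {p : X ⟶ S} {w : W ⟶ X}
    {w' : W ⟶ (U.ι ⁻¹ᵁ V : (U : Scheme.{u}).Opens).toScheme}
    (sq : IsPullback w w' p ((U.ι ⁻¹ᵁ V).ι ≫ U.ι)) :
    IsPullback w (w' ≫ (U.ι ∣_ V)) p V.ι := by
  haveI : Surjective (U.ι ∣_ V) := by
    refine ⟨fun v => ?_⟩
    refine ⟨⟨⟨v.1, h v.2⟩, v.2⟩, ?_⟩
    apply V.ι.isOpenEmbedding.injective
    rw [← Scheme.Hom.comp_apply, morphismRestrict_ι, Scheme.Hom.comp_apply]
    rfl
  haveI : IsIso (U.ι ∣_ V) := (isIso_iff_isOpenImmersion_and_surjective _).2 ⟨inferInstance, inferInstance⟩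
  refine sq.of_iso (Iso.refl _) (Iso.refl _) (asIso (U.ι ∣_ V)) (Iso.refl _) ?_ ?_ ?_ ?_ <;>
    simp [morphismRestrict_ι]

theorem smooth_of_comp_etale {X Y Z : Scheme.{u}} (f : X ⟶ Y) (g : Y ⟶ Z) [Etale g] [Smooth (f ≫ g)] :
    Smooth f := by
  haveI : MorphismProperty.IsMultiplicative @Smooth :=
    { id_mem := fun X => inferInstanceAs (Smooth (𝟙 X))
      comp_mem := fun f g hf hg => by haveI := hf; haveI := hg; infer_instance }
  haveI : MorphismProperty.HasOfPostcompProperty @Smooth @Etale :=
    MorphismProperty.hasOfPostcompProperty_iff_le_diagonal.2 fun X Y g hg => by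
      haveI := hg
      show Smooth _
      infer_instance
  exact MorphismProperty.of_postcomp (W := @Smooth) (W' := @Etale) f g ‹_› ‹_›

end Groth.Agent.NeronMapLib
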